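import Groth.Prelude.Def_W4stkfunctorsequivSib
import Mathlib.Algebra.Homology.DerivedCategory.FullyFaithful
import Mathlib.Algebra.Homology.DerivedCategory.HomologySequence
import Mathlib.Algebra.Homology.DerivedCategory.TStructure
import Mathlib.CategoryTheory.Triangulated.TStructure.TruncLTGE
import Mathlib.CategoryTheory.Triangulated.Subcategory
import Mathlib.CategoryTheory.Triangulated.Functor
import Mathlib.Algebra.Homology.SingleHomology

/-! Basic facts about the bounded derived category for the sibling lemma. -/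

set_option autoImplicit false
set_option backward.isDefEq.respectTransparency false
set_option synthInstance.maxHeartbeats 100000
set_option linter.style.haveILetI false

universe w v u v' u'

open CategoryTheory CategoryTheory.Limits CategoryTheory.Pretriangulated CategoryTheory.Triangulated
  DerivedCategory

namespace Groth.Agent.DEquivLib

section Conj

variable {C : Type u} [Category.{v} C] [HasShift C ℤ] {D : Type u'} [Category.{v'} D] [HasShift D ℤ]
  (F F' : C ⥤ D) [F.CommShift ℤ] [F'.CommShift ℤ]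

/-- Transport of a map `F Y ⟶ F' Y` to a shift of `Y`. -/
noncomputable def conj {Y : C} (n : ℤ) (θ : F.obj Y ⟶ F'.obj Y) : F.obj (Y⟦n⟧) ⟶ F'.obj (Y⟦n⟧) :=
  (F.commShiftIso n).hom.app Y ≫ θ⟦n⟧' ≫ (F'.commShiftIso n).inv.app Y

theorem conj_natural {Y Y' : C} (n : ℤ) (θ : F.obj Y ⟶ F'.obj Y) (θ' : F.obj Y' ⟶ F'.obj Y')
    (g : Y ⟶ Y') (h : F.map g ≫ θ' = θ ≫ F'.map g) :
    F.map (g⟦n⟧') ≫ conj F F' n θ' = conj F F' n θ ≫ F'.map (g⟦n⟧') := by
  have e₁ := (F.commShiftIso n).hom.naturality g
  have e₂ := (F'.commShiftIso n).inv.naturality g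
  dsimp at e₁ e₂
  simp only [conj, Category.assoc]
  rw [reassoc_of% e₁, ← e₂, ← Functor.map_comp_assoc, h, Functor.map_comp_assoc]

theorem conj_add {Y : C} (m n k : ℤ) (h : m + n = k) (θ : F.obj Y ⟶ F'.obj Y) :
    F.map ((shiftFunctorAdd' C m n k h).hom.app Y) ≫ conj F F' n (conj F F' m θ) =
      conj F F' k θ ≫ F'.map ((shiftFunctorAdd' C m n k h).hom.app Y) := by
  have e₁ : (F.commShiftIso k).hom.app Y = _ :=
    NatTrans.congr_app (congrArg Iso.hom (F.commShiftIso_add' h)) Y
  have e₂ : (F'.commShiftIso k).inv.app Y = _ :=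
    NatTrans.congr_app (congrArg Iso.inv (F'.commShiftIso_add' h)) Y
  simp only [Functor.CommShift.isoAdd'_hom_app] at e₁
  simp only [Functor.CommShift.isoAdd'_inv_app] at e₂
  have n₁ := (shiftFunctorAdd' D m n k h).inv.naturality θ
  dsimp at n₁
  simp only [conj, Functor.map_comp, Category.assoc]
  rw [e₁, e₂]
  simp only [Category.assoc, ← F'.map_comp, Iso.inv_hom_id_app]
  rw [← reassoc_of% n₁, Iso.inv_hom_id_app_assoc]
  simp

end Conj

variable {A : Type u} [Category.{v} A] [Abelian A] [HasDerivedCategory.{w} A]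

/-- `X` placed in degree `i`. -/
noncomputable abbrev S (X : A) (i : ℤ) : DerivedCategory.Bounded A := ((DEquiv.singleB A).obj X)⟦-i⟧

/-- Its underlying object. -/
noncomputable def sIso (X : A) (i : ℤ) : (S X i).obj ≅ (singleFunctor A i).obj X :=
  ((DerivedCategory.Bounded.ι (C := A)).commShiftIso (-i)).app ((DEquiv.singleB A).obj X) ≪≫
    ((singleFunctors A).shiftIso (-i) i 0 (by omega)).app X

/-- Amplitude. -/
def In (a b : ℤ) (K : DerivedCategory.Bounded A) : Prop := K.obj.IsGE a ∧ K.obj.IsLE b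

theorem In.mono {a b a' b' : ℤ} {K : DerivedCategory.Bounded A} (h : In a b K) (ha : a' ≤ a) (hb : b ≤ b') :
    In a' b' K :=
  haveI := h.1
  haveI := h.2
  ⟨TStructure.t.isGE_of_ge K.obj a' a ha, TStructure.t.isLE_of_le K.obj b b' hb⟩

theorem in_S (X : A) (i : ℤ) : In i i (S X i) :=
  ⟨TStructure.t.isGE_of_iso (sIso X i).symm i, TStructure.t.isLE_of_iso (sIso X i).symm i⟩

theorem exists_in (K : DerivedCategory.Bounded A) : ∃ n : ℕ, In (-(n : ℤ)) n K := by
  obtain ⟨⟨p, hp⟩, ⟨q, hq⟩⟩ := K.property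
  exact ⟨max p.natAbs q.natAbs, (show In p q K from ⟨hp, hq⟩).mono (by omega) (by omega)⟩

/-- Morphisms from lower to higher amplitude vanish. -/
theorem hom_eq_zero_of_amp {a b c d : ℤ} {K L : DerivedCategory.Bounded A} (hK : In a b K) (hL : In c d L)
    (h : b < c) (f : K ⟶ L) : f = 0 := by
  haveI := hK.2
  haveI := hL.1
  apply ObjectProperty.hom_ext
  exact TStructure.t.zero f.hom b c h

theorem S_map_surjective {X Y : A} (i : ℤ) (f : S X i ⟶ S Y i) :
    ∃ g : X ⟶ Y, ((DEquiv.singleB A).map g)⟦-i⟧' = f := by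
  obtain ⟨f', rfl⟩ := (shiftFunctor (DerivedCategory.Bounded A) (-i)).map_surjective f
  obtain ⟨g, hg⟩ := (singleFunctor A 0).map_surjective f'.hom
  exact ⟨g, congrArg _ (ObjectProperty.hom_ext _ hg)⟩

theorem exists_iso_S {a : ℤ} {K : DerivedCategory.Bounded A} (h : In a a K) :
    ∃ X : A, Nonempty (K ≅ S X a) := by
  haveI := h.1
  haveI := h.2
  obtain ⟨X, ⟨e⟩⟩ := exists_iso_singleFunctor_obj_of_isGE_of_isLE K.obj a
  exact ⟨X, ⟨(DerivedCategory.Bounded.ι (C := A)).preimageIso (e ≪≫ (sIso X a).symm)⟩⟩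

theorem homologyMap_shift_single {X : A} (b i : ℤ) (hi : i ≠ b) :
    IsZero ((homologyFunctor A i).obj (S X b).obj) := by
  haveI : (S X b).obj.IsGE b := (in_S X b).1
  haveI : (S X b).obj.IsLE b := (in_S X b).2
  rcases lt_or_gt_of_ne hi with h | h
  · exact isZero_of_isGE _ b i h
  · exact isZero_of_isLE _ b i h

/-- Surjections on top cohomology from enough negative objects. -/
theorem exists_top_cover (hneg : ∀ X : A, ∃ (N : A) (p : N ⟶ X), Epi p ∧ ∀ f : X ⟶ N, f = 0)
    {a b : ℤ} {K : DerivedCategory.Bounded A} (hK : In a b K) (Z : A) :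
    ∃ (N : A) (f : S N b ⟶ K), Epi ((homologyFunctor A b).map f.hom) ∧ ∀ g : Z ⟶ N, g = 0 := by
  haveI := hK.2
  obtain ⟨C, hC, ⟨e⟩⟩ := exists_iso_Q_obj_of_isLE K.obj b
  obtain ⟨N, p, hp, hpz⟩ := hneg (C.X b ⊞ Z)
  have hd : C.d b (b + 1) = 0 := (CochainComplex.isZero_of_isStrictlyLE C b (b + 1) (by omega)).eq_of_tgt _ _
  let q : N ⟶ C.X b := p ≫ biprod.fst
  haveI : Epi q := epi_comp _ _
  let φ : (HomologicalComplex.single A (ComplexShape.up ℤ) b).obj N ⟶ C :=
    HomologicalComplex.mkHomFromSingle q (fun j hj => by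
      obtain rfl : j = b + 1 := by simp at hj; omega
      rw [hd, comp_zero])
  have hφ : Epi (HomologicalComplex.homologyMap φ b) := by
    haveI : IsIso (C.iCycles b) := C.isIso_iCycles b (b + 1) (by simp) hd
    haveI : IsIso (((HomologicalComplex.single A (ComplexShape.up ℤ) b).obj N).iCycles b) :=
      ((HomologicalComplex.single A (ComplexShape.up ℤ) b).obj N).isIso_iCycles b (b + 1) (by simp)
        ((HomologicalComplex.isZero_single_obj_X (ComplexShape.up ℤ) b N (b + 1) (by omega)).eq_of_tgt _ _)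
    haveI : Epi (HomologicalComplex.cyclesMap φ b ≫ C.iCycles b) := by
      rw [HomologicalComplex.cyclesMap_i, HomologicalComplex.mkHomFromSingle_f]
      infer_instance
    haveI : Epi (HomologicalComplex.cyclesMap φ b) := by
      have : HomologicalComplex.cyclesMap φ b =
          (HomologicalComplex.cyclesMap φ b ≫ C.iCycles b) ≫ inv (C.iCycles b) := by
        rw [Category.assoc, IsIso.hom_inv_id, Category.comp_id]
      rw [this]
      infer_instance
    haveI : Epi (((HomologicalComplex.single A (ComplexShape.up ℤ) b).obj N).homologyπ b ≫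
        HomologicalComplex.homologyMap φ b) := by
      rw [HomologicalComplex.homologyπ_naturality]
      infer_instance
    exact epi_of_epi (((HomologicalComplex.single A (ComplexShape.up ℤ) b).obj N).homologyπ b) _
  let ψ : (S N b).obj ⟶ K.obj :=
    (sIso N b).hom ≫ ((singleFunctorIsoCompQ A b).hom.app N) ≫ Q.map φ ≫ e.inv
  refine ⟨N, ObjectProperty.homMk ψ, ?_, fun g => ?_⟩
  · haveI : Epi ((homologyFunctor A b).map (Q.map φ)) :=
      ((MorphismProperty.epimorphisms A).arrow_mk_iso_iff
        (Arrow.isoMk ((homologyFunctorFactors A b).app _) ((homologyFunctorFactors A b).app C)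
          ((homologyFunctorFactors A b).hom.naturality φ).symm)).2 (.infer_property _)
    show Epi ((homologyFunctor A b).map ψ)
    simp only [ψ, Functor.map_comp]
    infer_instance
  · have := hpz (biprod.snd ≫ g)
    rw [← cancel_epi (biprod.snd : C.X b ⊞ Z ⟶ Z), this, comp_zero]

/-- An object controlling maps into the top degree. -/
theorem exists_top_object {a b : ℤ} {K : DerivedCategory.Bounded A} (hK : In a b K) :
    ∃ H : A, ∀ N : A, (∀ g : H ⟶ N, g = 0) → ∀ f : K ⟶ S N b, f = 0 := by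
  haveI := hK.2
  let t : TStructure (DerivedCategory A) := TStructure.t
  haveI : ((t.truncGE b).obj K.obj).IsLE b := by
    refine (isLE_iff _ _).2 fun i hi => ?_
    refine (HomologySequence.exact₃ _ (t.triangleLTGE_distinguished b K.obj) i (i + 1) rfl).isZero_X₂ ?_ ?_
    · exact (isZero_of_isLE K.obj b i hi).eq_of_src _ _
    · haveI : ((t.truncLT b).obj K.obj).IsLE (b - 1) := t.isLE_truncLT_obj _ _ _ (by omega)
      exact (isZero_of_isLE _ (b - 1) (i + 1) (by omega)).eq_of_tgt _ _
  obtain ⟨H, ⟨e⟩⟩ := exists_iso_singleFunctor_obj_of_isGE_of_isLE ((t.truncGE b).obj K.obj) b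
  refine ⟨H, fun N hN f => ?_⟩
  have hf : ((t.truncLTι b).app K.obj ≫ f.hom ≫ (sIso N b).hom) = 0 := by
    haveI : ((t.truncLT b).obj K.obj).IsLE (b - 1) := t.isLE_truncLT_obj _ _ _ (by omega)
    exact t.zero _ (b - 1) b (by omega)
  obtain ⟨g, hg⟩ := Triangle.yoneda_exact₂ _ (t.triangleLTGE_distinguished b K.obj) (f.hom ≫ (sIso N b).hom) hf
  obtain ⟨g', hg'⟩ := (singleFunctor A b).map_surjective (e.inv ≫ g)
  rw [hN g', Functor.map_zero] at hg'
  have hg0 : g = 0 := by
    rw [← cancel_epi e.inv, ← hg', comp_zero]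
  rw [hg0, comp_zero] at hg
  apply ObjectProperty.hom_ext
  rw [← cancel_mono (sIso N b).hom, hg]
  exact zero_comp.symm

/-- The third object of a cover. -/
theorem exists_cocone {a b : ℤ} (hab : a < b) {K : DerivedCategory.Bounded A} (hK : In a b K) {N : A}
    (f : S N b ⟶ K) (hf : Epi ((homologyFunctor A b).map f.hom)) :
    ∃ (C : DerivedCategory.Bounded A) (g : K ⟶ C) (h : C ⟶ (S N b)⟦(1 : ℤ)⟧),
      Triangle.mk f g h ∈ distTriang (DerivedCategory.Bounded A) ∧ In a (b - 1) C := by
  haveI := hK.1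
  haveI := hK.2
  obtain ⟨C, g, h, hT⟩ := Pretriangulated.distinguished_cocone_triangle f
  have hT' := (DerivedCategory.Bounded.ι (C := A)).map_distinguished _ hT
  refine ⟨C, g, h, hT, (isGE_iff _ _).2 fun i hi => ?_, (isLE_iff _ _).2 fun i hi => ?_⟩
  · refine (HomologySequence.exact₃ _ hT' i (i + 1) rfl).isZero_X₂ ?_ ?_
    · exact (isZero_of_isGE K.obj a i hi).eq_of_src _ _
    · exact (homologyMap_shift_single b (i + 1) (by omega)).eq_of_tgt _ _
  · refine (HomologySequence.exact₃ _ hT' i (i + 1) rfl).isZero_X₂ ?_ ?_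
    · by_cases hib : i = b
      · subst hib
        have e₁ : f.hom ≫ g.hom = 0 :=
          (DerivedCategory.Bounded.ι (C := A)).congr_map (comp_distTriang_mor_zero₁₂ _ hT) |>.trans
            (Functor.map_zero _ _ _)
        refine (cancel_epi ((homologyFunctor A i).map f.hom)).1 ?_
        rw [comp_zero]
        refine ((homologyFunctor A i).map_comp _ _).symm.trans ?_
        rw [show f.hom ≫ ((DerivedCategory.Bounded.ι (C := A)).mapTriangle.obj (Triangle.mk f g h)).mor₂ = 0 from e₁]
        exact Functor.map_zero _ _ _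
      · exact (isZero_of_isLE K.obj b i (by omega)).eq_of_src _ _
    · exact (homologyMap_shift_single b (i + 1) (by omega)).eq_of_tgt _ _

end Groth.Agent.DEquivLib
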