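import Groth.Agent.DEquivLib.SibBase

/-! The sibling lemma for enough negative objects. -/

set_option autoImplicit false
set_option backward.isDefEq.respectTransparency false
set_option synthInstance.maxHeartbeats 100000
set_option linter.style.haveILetI false
set_option linter.unusedSectionVars false
set_option linter.unusedVariables false

universe w v u v' u'

open CategoryTheory CategoryTheory.Limits CategoryTheory.Pretriangulated

namespace Groth.Agent.DEquivLib

variable {A : Type u} [Category.{v} A] [Abelian A] [HasDerivedCategory.{w} A]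
  (hneg : ∀ X : A, ∃ (N : A) (p : N ⟶ X), Epi p ∧ ∀ f : X ⟶ N, f = 0)
  {D : Type u'} [Category.{v'} D] [Preadditive D] [HasZeroObject D] [HasShift D ℤ]
  [∀ n : ℤ, (shiftFunctor D n).Additive] [Pretriangulated D] [IsTriangulated D]
  (F F' : DerivedCategory.Bounded A ⥤ D) [F.CommShift ℤ] [F.IsTriangulated]
  [F'.CommShift ℤ] [F'.IsTriangulated]
  (θ : DEquiv.singleB A ⋙ F ≅ DEquiv.singleB A ⋙ F')
  (h2 : ∀ K : DerivedCategory.Bounded A, Nonempty (F.obj K ≅ F'.obj K))
  [F.Full] [F.Faithful]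

include h2 in
/-- Vanishing transfers to maps from `F` to `F'`. -/
theorem map_eq_zero {K L : DerivedCategory.Bounded A} (h : ∀ f : K ⟶ L, f = 0) (g : F.obj K ⟶ F'.obj L) :
    g = 0 := by
  obtain ⟨e⟩ := h2 L
  obtain ⟨f, hf⟩ := F.map_surjective (g ≫ e.inv)
  rw [← cancel_mono e.inv, ← hf, h f, Functor.map_zero, zero_comp]

/-- The canonical comparison on shifts of objects of the heart. -/
noncomputable def ψ (X : A) (i : ℤ) : F.obj (S X i) ⟶ F'.obj (S X i) :=
  conj F F' (-i) (θ.hom.app X)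

omit [F.Full] [F.Faithful] [IsTriangulated D] in
theorem ψ_natural {X Y : A} (i : ℤ) (g : X ⟶ Y) :
    F.map (((DEquiv.singleB A).map g)⟦-i⟧') ≫ ψ F F' θ Y i =
      ψ F F' θ X i ≫ F'.map (((DEquiv.singleB A).map g)⟦-i⟧') :=
  conj_natural F F' (-i) _ _ _ (θ.hom.naturality g)

instance isIso_ψ (X : A) (i : ℤ) : IsIso (ψ F F' θ X i) := by
  unfold ψ conj
  haveI : IsIso (θ.hom.app X) := inferInstance
  exact IsIso.comp_isIso' inferInstance (IsIso.comp_isIso' (Functor.map_isIso _ _) inferInstance)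

/-- The shift by one of an object of the heart. -/
noncomputable def shiftS (X : A) (b : ℤ) : (S X b)⟦(1 : ℤ)⟧ ≅ S X (b - 1) :=
  ((shiftFunctorAdd' (DerivedCategory.Bounded A) (-b) 1 (-(b - 1)) (by omega)).app _).symm

omit [F.Full] [F.Faithful] [IsTriangulated D] in
theorem conj_ψ (X : A) (b : ℤ) :
    F.map (shiftS X b).inv ≫ conj F F' 1 (ψ F F' θ X b) = ψ F F' θ X (b - 1) ≫ F'.map (shiftS X b).inv :=
  conj_add F F' (-b) 1 (-(b - 1)) (by omega) (θ.hom.app X)

/-- A natural comparison in amplitude `[a, b]`. -/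
structure Sys (a b : ℤ) where
  φ : ∀ K, In a b K → (F.obj K ⟶ F'.obj K)
  iso : ∀ K hK, IsIso (φ K hK)
  nat : ∀ K K' hK hK' (u : K ⟶ K'), F.map u ≫ φ K' hK' = φ K hK ≫ F'.map u
  heart : ∀ X i (h : In a b (S X i)), a ≤ i → i ≤ b → φ _ h = ψ F F' θ X i

/-- Restriction. -/
def Sys.restrict {a b a' b' : ℤ} (σ : Sys F F' θ a b) (ha : a ≤ a') (hb : b' ≤ b) : Sys F F' θ a' b' where
  φ K hK := σ.φ K (hK.mono ha hb)
  iso K hK := σ.iso K _
  nat K K' hK hK' u := σ.nat K K' _ _ u
  heart X i h h₁ h₂ := σ.heart X i _ (ha.trans h₁) (h₂.trans hb)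

/-- A cover of an object of amplitude `[a, b]`. -/
structure Cover (a b : ℤ) (K : DerivedCategory.Bounded A) where
  N : A
  f : S N b ⟶ K
  C : DerivedCategory.Bounded A
  g : K ⟶ C
  h : C ⟶ (S N b)⟦(1 : ℤ)⟧
  dist : Triangle.mk f g h ∈ distTriang (DerivedCategory.Bounded A)
  inC : In a (b - 1) C
  epi : Epi ((DerivedCategory.homologyFunctor A b).map f.hom)
  vanish : ∀ g : K ⟶ S N b, g = 0

include hneg in
theorem nonempty_cover {a b : ℤ} (hab : a < b) {K : DerivedCategory.Bounded A} (hK : In a b K) (Z : A) :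
    ∃ c : Cover a b K, ∀ g : Z ⟶ c.N, g = 0 := by
  obtain ⟨H, hH⟩ := exists_top_object hK
  obtain ⟨N, f, hf, hN⟩ := exists_top_cover hneg hK (H ⊞ Z)
  obtain ⟨C, g, h, hT, hC⟩ := exists_cocone hab hK f hf
  refine ⟨⟨N, f, C, g, h, hT, hC, hf, hH N fun x => ?_⟩, fun x => ?_⟩
  · exact (cancel_epi (biprod.fst : H ⊞ Z ⟶ H)).1 ((hN (biprod.fst ≫ x)).trans comp_zero.symm)
  · exact (cancel_epi (biprod.snd : H ⊞ Z ⟶ Z)).1 ((hN (biprod.snd ≫ x)).trans comp_zero.symm)

variable {F F' θ}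

/-- The defining property of the value at a covered object. -/
def Cover.Fits {a b : ℤ} {K : DerivedCategory.Bounded A} (c : Cover a b K) (σ : Sys F F' θ a (b - 1))
    (x : F.obj K ⟶ F'.obj K) : Prop :=
  x ≫ F'.map c.g = F.map c.g ≫ σ.φ c.C c.inC

include h2 in
theorem Cover.fits_unique {a b : ℤ} {K : DerivedCategory.Bounded A} (c : Cover a b K)
    (σ : Sys F F' θ a (b - 1)) {x y : F.obj K ⟶ F'.obj K} (hx : c.Fits σ x) (hy : c.Fits σ y) : x = y := by
  have h : (x - y) ≫ (F'.mapTriangle.obj (Triangle.mk c.f c.g c.h)).mor₂ = 0 := by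
    show (x - y) ≫ F'.map c.g = 0
    rw [Preadditive.sub_comp, hx, hy, sub_self]
  obtain ⟨z, hz⟩ := Triangle.coyoneda_exact₂ _ (F'.map_distinguished _ c.dist) (x - y) h
  rw [← sub_eq_zero, hz, map_eq_zero F F' h2 c.vanish z]
  exact zero_comp

omit [F.Full] [F.Faithful] in
theorem Cover.exists_fits {a b : ℤ} (hab : a < b) {K : DerivedCategory.Bounded A} (c : Cover a b K)
    (σ : Sys F F' θ a (b - 1)) :
    ∃ x, c.Fits σ x ∧ F.map c.f ≫ x = ψ F F' θ c.N b ≫ F'.map c.f ∧ IsIso x := by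
  let h' : c.C ⟶ S c.N (b - 1) := c.h ≫ (shiftS c.N b).hom
  have hS : In a (b - 1) (S c.N (b - 1)) := (in_S c.N (b - 1)).mono (by omega) le_rfl
  have e := σ.nat c.C _ c.inC hS h'
  rw [σ.heart c.N (b - 1) hS (by omega) le_rfl] at e
  have hh : c.h = h' ≫ (shiftS c.N b).inv := by simp [h']
  have key : F.map c.h ≫ conj F F' 1 (ψ F F' θ c.N b) = σ.φ c.C c.inC ≫ F'.map c.h := by
    rw [hh, F.map_comp, F'.map_comp, Category.assoc, conj_ψ, reassoc_of% e]
  have comm : (F.mapTriangle.obj (Triangle.mk c.f c.g c.h)).mor₃ ≫ (ψ F F' θ c.N b)⟦(1 : ℤ)⟧' =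
      σ.φ c.C c.inC ≫ (F'.mapTriangle.obj (Triangle.mk c.f c.g c.h)).mor₃ := by
    show (F.map c.h ≫ (F.commShiftIso (1 : ℤ)).hom.app _) ≫ _ =
      _ ≫ F'.map c.h ≫ (F'.commShiftIso (1 : ℤ)).hom.app _
    rw [← reassoc_of% key]
    simp [conj]
  obtain ⟨x, hx₁, hx₂⟩ := complete_distinguished_triangle_morphism₂ _ _
    (F.map_distinguished _ c.dist) (F'.map_distinguished _ c.dist) (ψ F F' θ c.N b) (σ.φ c.C c.inC) comm
  refine ⟨x, hx₂.symm, hx₁, ?_⟩
  haveI := σ.iso c.C c.inC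
  exact isIso₂_of_isIso₁₃ (Triangle.homMk (F.mapTriangle.obj (Triangle.mk c.f c.g c.h))
    (F'.mapTriangle.obj (Triangle.mk c.f c.g c.h)) (ψ F F' θ c.N b) x (σ.φ c.C c.inC) hx₁ hx₂ comm)
    (F.map_distinguished _ c.dist) (F'.map_distinguished _ c.dist) (isIso_ψ F F' θ c.N b) (σ.iso c.C c.inC)

include h2 in
theorem Cover.natural {a b : ℤ} {K K' : DerivedCategory.Bounded A} (c : Cover a b K) (c' : Cover a b K')
    (σ : Sys F F' θ a (b - 1)) (u : K ⟶ K') (s : S c.N b ⟶ S c'.N b) (hs : c.f ≫ u = s ≫ c'.f)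
    (hv : ∀ z : K ⟶ S c'.N b, z = 0)
    {x : F.obj K ⟶ F'.obj K} (hx : c.Fits σ x) {x' : F.obj K' ⟶ F'.obj K'} (hx' : c'.Fits σ x') :
    F.map u ≫ x' = x ≫ F'.map u := by
  obtain ⟨d, hd, -⟩ := complete_distinguished_triangle_morphism _ _ c.dist c'.dist s u hs
  change c.g ≫ d = u ≫ c'.g at hd
  have h : (F.map u ≫ x' - x ≫ F'.map u) ≫ (F'.mapTriangle.obj (Triangle.mk c'.f c'.g c'.h)).mor₂ = 0 := by
    show _ ≫ F'.map c'.g = 0
    rw [Preadditive.sub_comp, Category.assoc, Category.assoc, hx', ← F'.map_comp, ← hd, F'.map_comp,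
      reassoc_of% hx, ← σ.nat c.C c'.C c.inC c'.inC d, ← F.map_comp_assoc, ← hd, F.map_comp_assoc, sub_self]
  obtain ⟨z, hz⟩ := Triangle.coyoneda_exact₂ _ (F'.map_distinguished _ c'.dist) _ h
  rw [← sub_eq_zero, hz, map_eq_zero F F' h2 hv z]
  exact zero_comp

/-- The sum of two covers. -/
theorem exists_cover_add {a b : ℤ} (hab : a < b) {K K' : DerivedCategory.Bounded A} (hK' : In a b K')
    (c : Cover a b K) (c' : Cover a b K') (u : K ⟶ K') (hv : ∀ z : K ⟶ S c'.N b, z = 0)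
    (hv' : ∀ z : K' ⟶ S c.N b, z = 0) :
    ∃ (c'' : Cover a b K') (s : S c.N b ⟶ S c''.N b) (s' : S c'.N b ⟶ S c''.N b),
      c.f ≫ u = s ≫ c''.f ∧ c'.f ≫ 𝟙 K' = s' ≫ c''.f ∧ ∀ z : K ⟶ S c''.N b, z = 0 := by
  let T := DEquiv.singleB A ⋙ shiftFunctor (DerivedCategory.Bounded A) (-b)
  haveI : (DEquiv.singleB A).Additive :=
    { map_add := fun {X Y f g} => ObjectProperty.hom_ext _ ((DerivedCategory.singleFunctor A 0).map_add) }
  haveI : PreservesBinaryBiproducts T := preservesBinaryBiproducts_of_preservesBiproducts T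
  let e : T.obj (c.N ⊞ c'.N) ≅ T.obj c.N ⊞ T.obj c'.N := T.mapBiprod c.N c'.N
  let f : S (c.N ⊞ c'.N) b ⟶ K' := e.hom ≫ biprod.desc (c.f ≫ u) c'.f
  have h₂ : T.map (biprod.inr : c'.N ⟶ c.N ⊞ c'.N) ≫ f = c'.f := by
    simp [f, e, ← Category.assoc, ← Functor.map_comp]
  have h₁ : T.map (biprod.inl : c.N ⟶ c.N ⊞ c'.N) ≫ f = c.f ≫ u := by
    simp [f, e, ← Category.assoc, ← Functor.map_comp]
  have hf : Epi ((DerivedCategory.homologyFunctor A b).map f.hom) := by
    haveI : Epi ((DerivedCategory.homologyFunctor A b).map (T.map (biprod.inr : c'.N ⟶ c.N ⊞ c'.N)).hom ≫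
        (DerivedCategory.homologyFunctor A b).map f.hom) := by
      rw [← Functor.map_comp]
      show Epi ((DerivedCategory.homologyFunctor A b).map (T.map (biprod.inr : c'.N ⟶ c.N ⊞ c'.N) ≫ f).hom)
      rw [h₂]
      exact c'.epi
    exact epi_of_epi ((DerivedCategory.homologyFunctor A b).map (T.map (biprod.inr : c'.N ⟶ c.N ⊞ c'.N)).hom) _
  obtain ⟨C, g, h, hT, hC⟩ := exists_cocone hab hK' f hf
  have hzero : ∀ (L : DerivedCategory.Bounded A), (∀ z : L ⟶ S c.N b, z = 0) → (∀ z : L ⟶ S c'.N b, z = 0) →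
      ∀ z : L ⟶ S (c.N ⊞ c'.N) b, z = 0 := by
    intro L h₁ h₂ z
    have e₀ : (z : L ⟶ T.obj (c.N ⊞ c'.N)) ≫ e.hom = 0 := by
      apply biprod.hom_ext
      · exact (h₁ _).trans zero_comp.symm
      · exact (h₂ _).trans zero_comp.symm
    exact (cancel_mono e.hom).1 (e₀.trans zero_comp.symm)
  refine ⟨⟨c.N ⊞ c'.N, f, C, g, h, hT, hC, hf, hzero K' hv' c'.vanish⟩, T.map biprod.inl, T.map biprod.inr,
    h₁.symm, (Category.comp_id _).trans h₂.symm, hzero K c.vanish hv⟩

variable (F F' θ)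

include hneg h2 in
/-- Existence and uniqueness. -/
theorem exists_unique_sys (n : ℕ) : ∀ a b : ℤ, b = a + n →
    Nonempty (Sys F F' θ a b) ∧ ∀ σ τ : Sys F F' θ a b, ∀ K hK, σ.φ K hK = τ.φ K hK := by
  induction n with
  | zero =>
    intro a b hb
    obtain rfl : b = a := by simpa using hb
    constructor
    · choose X e using fun (K : DerivedCategory.Bounded A) (hK : In b b K) => exists_iso_S hK
      let φ := fun K hK => F.map (e K hK).some.hom ≫ ψ F F' θ (X K hK) b ≫ F'.map (e K hK).some.inv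
      have nat : ∀ K K' hK hK' (u : K ⟶ K'), F.map u ≫ φ K' hK' = φ K hK ≫ F'.map u := by
        intro K K' hK hK' u
        obtain ⟨g, hg⟩ := S_map_surjective b ((e K hK).some.inv ≫ u ≫ (e K' hK').some.hom)
        have h := ψ_natural F F' θ b g
        rw [hg] at h
        simp only [Functor.map_comp, Category.assoc] at h
        simp only [φ, Category.assoc]
        rw [← cancel_epi (F.map (e K hK).some.inv), ← cancel_mono (F'.map (e K' hK').some.hom)]
        simp only [Category.assoc, ← F'.map_comp, Iso.inv_hom_id, CategoryTheory.Functor.map_id, Category.comp_id,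
          ← F.map_comp_assoc, Category.id_comp]
        simpa using h
      refine ⟨⟨φ, fun K hK => inferInstance, nat, fun Y i h h₁ h₂ => ?_⟩⟩
      obtain rfl : i = b := le_antisymm h₂ h₁
      obtain ⟨g, hg⟩ := S_map_surjective i (e _ h).some.hom
      have h' := ψ_natural F F' θ i g
      rw [hg] at h'
      simp only [φ]
      rw [reassoc_of% h', ← F'.map_comp, Iso.hom_inv_id, CategoryTheory.Functor.map_id, Category.comp_id]
    · intro σ τ K hK
      obtain ⟨X, ⟨e⟩⟩ := exists_iso_S hK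
      have h₁ := σ.nat K _ hK (in_S X b) e.hom
      have h₂ := τ.nat K _ hK (in_S X b) e.hom
      rw [σ.heart X b _ le_rfl le_rfl] at h₁
      rw [τ.heart X b _ le_rfl le_rfl, h₁] at h₂
      exact (cancel_mono (F'.map e.hom)).1 h₂
  | succ n ih =>
    intro a b hb
    have hab : a < b := by omega
    obtain ⟨⟨σ⟩, huniq⟩ := ih a (b - 1) (by omega)
    have hc : ∀ K, In a b K → Nonempty (Cover a b K) := fun K hK =>
      ⟨(nonempty_cover hneg hab hK (exists_top_object hK).choose).choose⟩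
    let x := fun K hK => ((hc K hK).some.exists_fits hab σ).choose
    have hx : ∀ K hK, (hc K hK).some.Fits σ (x K hK) := fun K hK =>
      ((hc K hK).some.exists_fits hab σ).choose_spec.1
    -- all covers compute the same value
    have indep : ∀ K (hK : In a b K) (c : Cover a b K) (y : F.obj K ⟶ F'.obj K), c.Fits σ y → y = x K hK := by
      intro K hK c y hy
      obtain ⟨c'', s, s', hs, hs', hv⟩ :=
        exists_cover_add hab hK c (hc K hK).some (𝟙 K) (hc K hK).some.vanish c.vanish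
      obtain ⟨z, hz, -, -⟩ := c''.exists_fits hab σ
      have e₁ := c.natural h2 c'' σ (𝟙 K) s hs hv hy hz
      have e₂ := (hc K hK).some.natural h2 c'' σ (𝟙 K) s' hs' hv (hx K hK) hz
      rw [CategoryTheory.Functor.map_id, CategoryTheory.Functor.map_id, Category.id_comp, Category.comp_id] at e₁ e₂
      exact e₁.symm.trans e₂
    have nat : ∀ K K' hK hK' (u : K ⟶ K'), F.map u ≫ x K' hK' = x K hK ≫ F'.map u := by
      intro K K' hK hK' u
      obtain ⟨H, hH⟩ := exists_top_object hK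
      obtain ⟨H', hH'⟩ := exists_top_object hK'
      obtain ⟨c, hc⟩ := nonempty_cover hneg hab hK H'
      obtain ⟨c', hc'⟩ := nonempty_cover hneg hab hK' H
      obtain ⟨c'', s, s', hs, hs', hv⟩ := exists_cover_add hab hK' c c' u (hH _ hc') (hH' _ hc)
      obtain ⟨z, hz, -, -⟩ := c''.exists_fits hab σ
      obtain ⟨y, hy, -, -⟩ := c.exists_fits hab σ
      rw [← indep K hK c y hy, ← indep K' hK' c'' z hz]
      exact c.natural h2 c'' σ u s hs hv hy hz
    refine ⟨⟨⟨x, fun K hK => ((hc K hK).some.exists_fits hab σ).choose_spec.2.2, nat, fun X i h h₁ h₂ => ?_⟩⟩, ?_⟩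
    · let c := (hc _ h).some
      obtain ⟨y, hy, hy₁, -⟩ := c.exists_fits hab σ
      rw [← indep _ h c y hy]
      rcases lt_or_eq_of_le h₂ with hlt | rfl
      · have hX : In a (b - 1) (S X i) := (in_S X i).mono h₁ (by omega)
        refine c.fits_unique h2 σ hy ?_
        show ψ F F' θ X i ≫ F'.map c.g = _
        rw [σ.nat _ _ hX c.inC c.g, σ.heart X i hX h₁ (by omega)]
      · obtain ⟨g, hg⟩ := S_map_surjective i c.f
        have hψ := ψ_natural F F' θ i g
        rw [hg] at hψ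
        have h0 : (F.mapTriangle.obj (Triangle.mk c.f c.g c.h)).mor₁ ≫ (y - ψ F F' θ X i) = 0 := by
          show F.map c.f ≫ _ = 0
          rw [Preadditive.comp_sub, hy₁, hψ, sub_self]
        obtain ⟨z, hz⟩ := Triangle.yoneda_exact₂ _ (F.map_distinguished _ c.dist) _ h0
        rw [← sub_eq_zero, hz, map_eq_zero F F' h2 (hom_eq_zero_of_amp c.inC (in_S X i) (by omega)) z]
        exact comp_zero
    · intro τ τ' K hK
      let c := (hc K hK).some
      have hC : In a b c.C := c.inC.mono le_rfl (by omega)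
      refine c.fits_unique h2 σ ?_ ?_
      · show _ ≫ F'.map c.g = _
        rw [← τ.nat K c.C hK hC c.g, ← huniq (τ.restrict F F' θ le_rfl (by omega)) σ c.C c.inC]
        rfl
      · show _ ≫ F'.map c.g = _
        rw [← τ'.nat K c.C hK hC c.g, ← huniq (τ'.restrict F F' θ le_rfl (by omega)) σ c.C c.inC]
        rfl

include hneg h2 θ in
/-- The sibling lemma. -/
theorem nonempty_iso : Nonempty (F ≅ F') := by
  have h := fun n : ℕ => exists_unique_sys hneg F F' θ h2 (2 * n) (-(n : ℤ)) n (by omega)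
  let σ := fun n => (h n).1.some
  choose n hn using exists_in (A := A)
  haveI : ∀ K, IsIso ((σ (n K)).φ K (hn K)) := fun K => (σ (n K)).iso K (hn K)
  refine ⟨NatIso.ofComponents (fun K => asIso ((σ (n K)).φ K (hn K))) fun {K K'} u => ?_⟩
  let m := max (n K) (n K')
  have hK : In (-(m : ℤ)) m K := (hn K).mono (by omega) (by omega)
  have hK' : In (-(m : ℤ)) m K' := (hn K').mono (by omega) (by omega)
  have e : ∀ (L : DerivedCategory.Bounded A) (k : ℕ) (hk : k ≤ m) (hL : In (-(k : ℤ)) k L)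
      (hL' : In (-(m : ℤ)) m L), (σ m).φ L hL' = (σ k).φ L hL := fun L k hk hL hL' =>
    (h k).2 ((σ m).restrict F F' θ (by omega) (by omega)) (σ k) L hL
  simp only [asIso_hom]
  rw [← e K (n K) (le_max_left _ _) (hn K) hK, ← e K' (n K') (le_max_right _ _) (hn K') hK']
  exact (σ m).nat K K' hK hK' u

end Groth.Agent.DEquivLib
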